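import Groth.Prelude.Def_SymTen
import Mathlib.Algebra.Colimit.Module

/-! Tensor powers commute with filtered colimits of algebras. -/

set_option autoImplicit false
universe u

open scoped TensorProduct

namespace Groth.Agent.TSColim

variable {A : Type u} [CommRing A] {B : Type u} [CommRing B] [Algebra A B]
    {ι : Type u} [Preorder ι] [IsDirected ι (fun i j => i ≤ j)] [Nonempty ι]
    {Bi : ι → Type u} [∀ i, CommRing (Bi i)] [∀ i, Algebra A (Bi i)]
    (t : ∀ i j : ι, i ≤ j → (Bi i →ₐ[A] Bi j)) (φ : ∀ i : ι, Bi i →ₐ[A] B)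
    (hcomp : ∀ (i j : ι) (h : i ≤ j), (φ j).comp (t i j h) = φ i)
    (hsurj : ∀ b : B, ∃ (i : ι) (x : Bi i), φ i x = b)
    (hzero : ∀ (i : ι) (x : Bi i), φ i x = 0 → ∃ (j : ι) (h : i ≤ j), t i j h x = 0)
    (hid : ∀ (i : ι) (h : i ≤ i), t i i h = AlgHom.id A (Bi i))
    (htrans : ∀ (i j k : ι) (hij : i ≤ j) (hjk : j ≤ k), (t j k hjk).comp (t i j hij) = t i k (hij.trans hjk))
    (d : ℕ)

include hcomp in
theorem φt {i j : ι} (h : i ≤ j) (x : Bi i) : φ j (t i j h x) = φ i x := DFunLike.congr_fun (hcomp i j h) x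

include htrans in
theorem tt {i j k : ι} (hij : i ≤ j) (hjk : j ≤ k) (x : Bi i) :
    t j k hjk (t i j hij x) = t i k (hij.trans hjk) x := DFunLike.congr_fun (htrans i j k hij hjk) x

theorem tmap_comp {C D E : Type u} [CommRing C] [CommRing D] [CommRing E] [Algebra A C] [Algebra A D] [Algebra A E]
    (f : C →ₐ[A] D) (g : D →ₐ[A] E) (y : ⨂[A] _ : Fin d, C) :
    SymTen.tmap A d g (SymTen.tmap A d f y) = SymTen.tmap A d (g.comp f) y := by
  induction y using PiTensorProduct.induction_on with
  | smul_tprod r a => simp only [map_smul, SymTen.tmap_tprod, AlgHom.comp_apply]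
  | add x y hx hy => simp only [map_add, hx, hy]

theorem tmap_id {C : Type u} [CommRing C] [Algebra A C] (y : ⨂[A] _ : Fin d, C) :
    SymTen.tmap A d (AlgHom.id A C) y = y := by
  induction y using PiTensorProduct.induction_on with
  | smul_tprod r a => simp only [map_smul, SymTen.tmap_tprod, AlgHom.id_apply]
  | add x y hx hy => simp only [map_add, hx, hy]

include hcomp in
theorem φ_tmap {i j : ι} (h : i ≤ j) (y : ⨂[A] _ : Fin d, Bi i) :
    SymTen.tmap A d (φ j) (SymTen.tmap A d (t i j h) y) = SymTen.tmap A d (φ i) y := by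
  rw [tmap_comp, hcomp]

/-- The system of tensor powers. -/
noncomputable abbrev sys (i j : ι) (h : i ≤ j) : (⨂[A] _ : Fin d, Bi i) →ₗ[A] ⨂[A] _ : Fin d, Bi j :=
  (SymTen.tmap A d (t i j h)).toLinearMap

variable [DecidableEq ι]

/-- The colimit of the tensor powers. -/
abbrev Lim : Type u := Module.DirectLimit (fun i => ⨂[A] _ : Fin d, Bi i) (sys t d)

include hzero htrans in
theorem exists_eq {i j : ι} (x : Fin d → Bi i) (y : Fin d → Bi j) (h : ∀ l, φ i (x l) = φ j (y l))
    (hcomp : ∀ (i j : ι) (h : i ≤ j), (φ j).comp (t i j h) = φ i) :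
    ∃ (k : ι) (hi : i ≤ k) (hj : j ≤ k), ∀ l, t i k hi (x l) = t j k hj (y l) := by
  classical
  obtain ⟨m, him, hjm⟩ := exists_ge_ge i j
  have h0 : ∀ l, φ m (t i m him (x l) - t j m hjm (y l)) = 0 := fun l => by
    rw [map_sub, φt t φ hcomp, φt t φ hcomp, h l, sub_self]
  choose k hk hk0 using fun l => hzero m _ (h0 l)
  obtain ⟨K, hK⟩ := Finset.exists_le (insert m (Finset.univ.image k))
  have hmK : m ≤ K := hK m (Finset.mem_insert_self _ _)
  refine ⟨K, him.trans hmK, hjm.trans hmK, fun l => ?_⟩
  have hkK : k l ≤ K := hK _ (Finset.mem_insert_of_mem (Finset.mem_image_of_mem k (Finset.mem_univ l)))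
  have h1 := congrArg (t (k l) K hkK) (hk0 l)
  rw [tt t htrans, map_sub, map_zero, sub_eq_zero, tt t htrans, tt t htrans] at h1
  exact h1

include hcomp hsurj in
theorem exists_stage (b : Fin d → B) : ∃ (i : ι) (x : Fin d → Bi i), ∀ l, φ i (x l) = b l := by
  classical
  choose k x hx using fun l => hsurj (b l)
  obtain ⟨K, hK⟩ := Finset.exists_le (Finset.univ.image k)
  exact ⟨K, fun l => t (k l) K (hK _ (Finset.mem_image_of_mem k (Finset.mem_univ l))) (x l),
    fun l => by rw [φt t φ hcomp, hx]⟩

/-- The multilinear inverse. -/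
noncomputable def inv : MultilinearMap A (fun _ : Fin d => B) (Lim t d) := by
  classical
  let val : (Fin d → B) → Lim t d := fun b =>
    Module.DirectLimit.of A ι _ _ (exists_stage t φ hcomp hsurj d b).choose
      (PiTensorProduct.tprod A (exists_stage t φ hcomp hsurj d b).choose_spec.choose)
  have hval : ∀ (i : ι) (x : Fin d → Bi i) (b : Fin d → B), (∀ l, φ i (x l) = b l) →
      val b = Module.DirectLimit.of A ι _ _ i (PiTensorProduct.tprod A x) := by
    intro i x b hx
    obtain ⟨k, hi, hj, hk⟩ := exists_eq t φ hzero htrans d (exists_stage t φ hcomp hsurj d b).choose_spec.choose x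
      (fun l => ((exists_stage t φ hcomp hsurj d b).choose_spec.choose_spec l).trans (hx l).symm) hcomp
    show Module.DirectLimit.of A ι _ _ _ _ = _
    rw [← Module.DirectLimit.of_f (f := sys t d) (hij := hi), ← Module.DirectLimit.of_f (f := sys t d) (hij := hj)]
    simp only [sys, AlgHom.toLinearMap_apply, SymTen.tmap_tprod, hk]
  refine { toFun := val, map_update_add' := ?_, map_update_smul' := ?_ }
  · intro hdec b l p q
    cases Subsingleton.elim hdec (inferInstance : DecidableEq (Fin d))
    obtain ⟨i₀, x, hx⟩ := exists_stage t φ hcomp hsurj d b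
    obtain ⟨ip, yp, hyp⟩ := hsurj p
    obtain ⟨iq, yq, hyq⟩ := hsurj q
    obtain ⟨K, hK⟩ := Finset.exists_le {i₀, ip, iq}
    have h0 : i₀ ≤ K := hK _ (by simp)
    have hp : ip ≤ K := hK _ (by simp)
    have hq : iq ≤ K := hK _ (by simp)
    let X : Fin d → Bi K := fun m => t i₀ K h0 (x m)
    have key : ∀ (c : B) (y : Bi K), φ K y = c → ∀ m, φ K (Function.update X l y m) = Function.update b l c m := by
      intro c y hy m
      rcases eq_or_ne m l with rfl | hm
      · rw [Function.update_self, Function.update_self, hy]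
      · rw [Function.update_of_ne hm, Function.update_of_ne hm, φt t φ hcomp, hx]
    rw [hval K _ _ (key p (t ip K hp yp) (by rw [φt t φ hcomp, hyp])),
      hval K _ _ (key q (t iq K hq yq) (by rw [φt t φ hcomp, hyq])),
      hval K _ _ (key (p + q) (t ip K hp yp + t iq K hq yq) (by rw [map_add, φt t φ hcomp, φt t φ hcomp, hyp, hyq])),
      ← map_add, MultilinearMap.map_update_add]
  · intro hdec b l r p
    cases Subsingleton.elim hdec (inferInstance : DecidableEq (Fin d))
    obtain ⟨i₀, x, hx⟩ := exists_stage t φ hcomp hsurj d b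
    obtain ⟨ip, yp, hyp⟩ := hsurj p
    obtain ⟨K, h0, hp⟩ := exists_ge_ge i₀ ip
    let X : Fin d → Bi K := fun m => t i₀ K h0 (x m)
    have key : ∀ (c : B) (y : Bi K), φ K y = c → ∀ m, φ K (Function.update X l y m) = Function.update b l c m := by
      intro c y hy m
      rcases eq_or_ne m l with rfl | hm
      · rw [Function.update_self, Function.update_self, hy]
      · rw [Function.update_of_ne hm, Function.update_of_ne hm, φt t φ hcomp, hx]
    rw [hval K _ _ (key p (t ip K hp yp) (by rw [φt t φ hcomp, hyp])),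
      hval K _ _ (key (r • p) (r • t ip K hp yp) (by rw [map_smul, φt t φ hcomp, hyp])),
      MultilinearMap.map_update_smul, map_smul]

theorem inv_apply (i : ι) (x : Fin d → Bi i) :
    inv t φ hcomp hsurj hzero htrans d (fun l => φ i (x l)) =
      Module.DirectLimit.of A ι _ _ i (PiTensorProduct.tprod A x) := by
  obtain ⟨k, hi, hj, hk⟩ := exists_eq t φ hzero htrans d (exists_stage t φ hcomp hsurj d (fun l => φ i (x l))).choose_spec.choose x
    (exists_stage t φ hcomp hsurj d (fun l => φ i (x l))).choose_spec.choose_spec hcomp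
  show Module.DirectLimit.of A ι _ _ _ _ = _
  rw [← Module.DirectLimit.of_f (f := sys t d) (hij := hi), ← Module.DirectLimit.of_f (f := sys t d) (hij := hj)]
  simp only [sys, AlgHom.toLinearMap_apply, SymTen.tmap_tprod, hk]

include hcomp hsurj hzero hid htrans in
theorem tmap_eq_zero {i : ι} (y : ⨂[A] _ : Fin d, Bi i) (h : SymTen.tmap A d (φ i) y = 0) :
    ∃ (j : ι) (hij : i ≤ j), SymTen.tmap A d (t i j hij) y = 0 := by
  haveI : DirectedSystem (fun i => ⨂[A] _ : Fin d, Bi i) (fun i j h => sys t d i j h) :=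
    ⟨fun i x => by show SymTen.tmap A d (t i i _) x = x; rw [hid, tmap_id],
     fun k j i hij hjk x => by
      show SymTen.tmap A d (t j k _) (SymTen.tmap A d (t i j _) x) = SymTen.tmap A d (t i k _) x
      rw [tmap_comp, htrans]⟩
  have key : ∀ y : ⨂[A] _ : Fin d, Bi i, PiTensorProduct.lift (inv t φ hcomp hsurj hzero htrans d)
      (SymTen.tmap A d (φ i) y) = Module.DirectLimit.of A ι _ _ i y := fun y => by
    induction y using PiTensorProduct.induction_on with
    | smul_tprod r a => simp only [map_smul, SymTen.tmap_tprod, PiTensorProduct.lift.tprod, inv_apply]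
    | add x y hx hy => simp only [map_add, hx, hy]
  have := key y
  rw [h, map_zero] at this
  exact Module.DirectLimit.of.zero_exact this.symm

include hcomp hsurj in
omit [DecidableEq ι] in
theorem tmap_surj (z : ⨂[A] _ : Fin d, B) : ∃ (i : ι) (y : ⨂[A] _ : Fin d, Bi i), SymTen.tmap A d (φ i) y = z := by
  induction z using PiTensorProduct.induction_on with
  | smul_tprod r b =>
    classical
    obtain ⟨i, x, hx⟩ := exists_stage t φ hcomp hsurj d b
    exact ⟨i, r • PiTensorProduct.tprod A x, by rw [map_smul, SymTen.tmap_tprod]; simp only [hx]⟩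
  | add x y hx hy =>
    obtain ⟨i, a, rfl⟩ := hx
    obtain ⟨j, b, rfl⟩ := hy
    obtain ⟨k, hi, hj⟩ := exists_ge_ge i j
    exact ⟨k, SymTen.tmap A d (t i k hi) a + SymTen.tmap A d (t j k hj) b,
      by rw [map_add, φ_tmap t φ hcomp, φ_tmap t φ hcomp]⟩

end Groth.Agent.TSColim
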